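import Groth.Agent.SGA3a.Affinization
import Groth.Agent.SGA3a.QuotGrp
import Groth.Agent.SGA3a.HopfFG
import Groth.Agent.SGA3a.NormalHopf
import Groth.Agent.Comod33.HopfFlat
import Groth.Agent.RedPts82.HopfCoord

/-!
Schematically dominant homomorphisms of an algebraic group to an affine group.
-/

set_option autoImplicit false
set_option linter.style.haveILetI false
set_option backward.isDefEq.respectTransparency.types false
universe u

open CategoryTheory CategoryTheory.Limits MonoidalCategory CartesianMonoidalCategory MonObj GrpObj AlgebraicGeometry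
open Groth.Agent.SGA3a

noncomputable section

namespace Groth.Agent.GrpFG58

/-- A Hopf subalgebra of a finitely generated commutative Hopf algebra is finitely generated. -/
theorem finiteType_of_injective {k A B : Type u} [Field k] [CommRing A] [HopfAlgebra k A] [CommRing B]
    [HopfAlgebra k B] [Algebra.FiniteType k B] (φ : A →ₐc[k] B) (hφ : Function.Injective φ) :
    Algebra.FiniteType k A := by
  classical
  let R := (φ : A →ₐ[k] B).range
  have hR : SGA3.IsHopfSubalgebra k B R := Comod33.HopfFlat.isSubHopf_range φ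
  haveI : IsNoetherianRing B := Algebra.FiniteType.isNoetherianRing k B
  let G : Set B := {b : B | b ∈ R ∧ CoalgebraStruct.counit (R := k) (A := B) b = 0}
  obtain ⟨s, hs, hspan⟩ := (Submodule.fg_span_iff_fg_span_finset_subset G).1
    (IsNoetherian.noetherian (Submodule.span B G))
  have hlift : ∀ b ∈ s, ∃ a : A, φ a = b := fun b hb => (hs hb).1
  choose a ha using hlift
  obtain ⟨C, hC, hCfg, hC₁, hC₂⟩ := exists_fg_hopfSubalgebra (k := k) (A := A)
    (s.attach.image fun b : {x // x ∈ s} => a b.1 b.2)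
  have hCs : Comod33.SubHopf.IsSubHopf C := ⟨hC₁, hC₂⟩
  letI := Comod33.SubHopf.hopfAlgebra hCs
  let ψ : C →ₐc[k] B := φ.comp (Comod33.SubHopf.incl hCs)
  let R' := (ψ : C →ₐ[k] B).range
  have hR' : SGA3.IsHopfSubalgebra k B R' := Comod33.HopfFlat.isSubHopf_range ψ
  have hle : R' ≤ R := by
    rintro _ ⟨c, rfl⟩
    exact ⟨c.1, rfl⟩
  have hI : SGA3.augIdealSpan k B R = SGA3.augIdealSpan k B R' := by
    refine le_antisymm ?_ (Ideal.span_mono fun b hb => ⟨hle hb.1, hb.2⟩)
    show Submodule.span B G ≤ _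
    rw [hspan]
    refine Submodule.span_le.2 fun b hb => Ideal.subset_span ⟨?_, (hs hb).2⟩
    exact ⟨⟨a b hb, hC (Finset.mem_coe.2 (Finset.mem_image.2 ⟨⟨b, hb⟩, Finset.mem_attach _ _, rfl⟩))⟩, ha b hb⟩
  have heq : R = R' := by
    rw [NormalHopf.eq_coinv_augIdealSpan hR, NormalHopf.eq_coinv_augIdealSpan hR', hI]
  have htop : C = ⊤ := top_unique fun x _ => by
    obtain ⟨c, hc⟩ : φ x ∈ R' := heq ▸ ⟨x, rfl⟩
    rw [← hφ hc]
    exact c.2
  exact ⟨htop ▸ hCfg⟩

theorem isCov_of_flat_surjective {X Y : Scheme.{u}} (p : X ⟶ Y) [Flat p] [Surjective p] [QuasiCompact p] :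
    QuotCover.IsCov p := by
  refine QuotCover.IsCov.mk p ⟨X, p, 𝟙 X, Category.id_comp _, inferInstance, inferInstance, fun V hV =>
    ⟨p ⁻¹ᵁ V, p.isCompact_preimage hV.isCompact, ?_⟩⟩
  exact Set.image_preimage_eq _ p.surjective

theorem appTop_injective_of_ker_eq_bot {X Y : Scheme.{u}} (f : X ⟶ Y) [QuasiCompact f] [IsAffine Y]
    (h : f.ker = ⊥) : Function.Injective f.appTop := by
  have h1 := Scheme.Hom.ker_apply f ⟨⊤, isAffineOpen_top Y⟩
  rw [h, Scheme.IdealSheafData.ideal_bot, Pi.bot_apply] at h1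
  exact (RingHom.injective_iff_ker_eq_bot _).2 h1.symm

variable {k : Type u} [Field k]

theorem isMonHom_of_comp_cov {G Q H : Over (Spec (CommRingCat.of k))} [GrpObj G] [GrpObj Q] [GrpObj H]
    (q : G ⟶ Q) [IsMonHom q] (hq : QuotCover.IsCov q.left) (m : Q ⟶ H) [IsMonHom (q ≫ m)] : IsMonHom m where
  one_hom := by
    rw [← IsMonHom.one_hom (f := q), Category.assoc, IsMonHom.one_hom (f := q ≫ m)]
  mul_hom := by
    have hc := QuotCover.IsCov.tensorHom q q hq hq
    apply Over.OverMorphism.ext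
    refine (hc.existsUnique_desc ((q ⊗ₘ q).left ≫ (μ[Q] ≫ m).left) ?_).unique rfl ?_
    · rw [← Category.assoc, pullback.condition, Category.assoc]
    · rw [← Over.comp_left, ← Over.comp_left, ← Category.assoc, ← Category.assoc, ← IsMonHom.mul_hom (f := q),
        MonoidalCategory.tensorHom_comp_tensorHom, Category.assoc, IsMonHom.mul_hom (f := q ≫ m)]

/-- A schematically dominant homomorphism to an affine group is faithfully flat onto a group of finite type. -/
theorem flat_surjective_finiteType_of_ker_eq_bot (G G' : Over (Spec (CommRingCat.of k))) [GrpObj G] [GrpObj G']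
    [LocallyOfFiniteType G.hom] [QuasiCompact G.hom] [IsAffine G'.left]
    (u : G ⟶ G') [IsMonHom u] (hdom : u.left.ker = ⊥) :
    Flat u.left ∧ Surjective u.left ∧ LocallyOfFiniteType G'.hom := by
  obtain ⟨Q, hQg, q, hq, hQa, hQft, hqf, hqs, hqfp, hqiso⟩ := Affinization.exists_affinization k G
  haveI : QuasiSeparated G'.hom := inferInstance
  haveI : QuasiCompact (u.left ≫ G'.hom) := by rw [Over.w]; infer_instance
  haveI : QuasiCompact u.left := QuasiCompact.of_comp u.left G'.hom
  haveI : QuasiCompact (q.left ≫ Q.hom) := by rw [Over.w]; infer_instance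
  haveI : QuasiSeparated Q.hom := inferInstance
  haveI : QuasiCompact q.left := QuasiCompact.of_comp q.left Q.hom
  haveI := hqiso
  -- the factorisation through the affinization
  let φ₀ := u.left.appTop ≫ CategoryTheory.inv q.left.appTop
  obtain ⟨m₀, hm₀'⟩ : ∃ m₀ : Q.left ⟶ G'.left, m₀.appTop = φ₀ := by
    refine ⟨Q.left.toSpecΓ ≫ Spec.map φ₀ ≫ G'.left.isoSpec.inv, ?_⟩
    have e : G'.left.isoSpec.inv.appTop = (Scheme.ΓSpecIso Γ(G'.left, ⊤)).inv := by
      haveI : IsIso G'.left.isoSpec.hom.appTop := inferInstanceAs (IsIso (G'.left.isoSpec.hom.app ⊤))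
      rw [← cancel_mono G'.left.isoSpec.hom.appTop, ← Scheme.Hom.comp_appTop, Iso.hom_inv_id, Scheme.Hom.id_appTop]
      show 𝟙 _ = _ ≫ G'.left.toSpecΓ.appTop
      rw [Scheme.toSpecΓ_appTop, Iso.inv_hom_id]
    simp only [Scheme.Hom.comp_appTop, e, Scheme.toSpecΓ_appTop]
    rw [← Scheme.ΓSpecIso_inv_naturality, Category.assoc, Iso.inv_hom_id, Category.comp_id]
  have hm₀ : q.left ≫ m₀ = u.left := by
    refine ext_of_isAffine ?_
    rw [Scheme.Hom.comp_appTop, hm₀', Category.assoc, IsIso.inv_hom_id, Category.comp_id]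
  have hepi : Epi q.left := Flat.epi_of_flat_of_surjective q.left
  let m : Q ⟶ G' := Over.homMk m₀ (by
    rw [← cancel_epi q.left, ← Category.assoc, hm₀, Over.w, Over.w])
  have hqm : q ≫ m = u := Over.OverMorphism.ext hm₀
  haveI : IsMonHom (q ≫ m) := hqm ▸ ‹IsMonHom u›
  haveI : IsMonHom m := isMonHom_of_comp_cov q (isCov_of_flat_surjective q.left) m
  -- coordinates
  obtain ⟨A, _, _, ψ, hψ⟩ := RedPts82.Hopf.exists_coord G'
  obtain ⟨B, _, _, ψ', hψ'⟩ := RedPts82.Hopf.exists_coord Q
  let φ := RedPts82.Hopf.pullBialg ψ ψ' m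
  have hinj : Function.Injective φ := by
    intro a b hab
    have h1 := (RedPts82.Hopf.appTop_i_fn ψ ψ' m a).trans
      ((congrArg _ hab).trans (RedPts82.Hopf.appTop_i_fn ψ ψ' m b).symm)
    have h2 : u.left.appTop (RedPts82.Hopf.fn ψ a) = u.left.appTop (RedPts82.Hopf.fn ψ b) := by
      rw [← hqm, Over.comp_left, Scheme.Hom.comp_appTop, CommRingCat.comp_apply, CommRingCat.comp_apply]
      exact congrArg _ h1
    exact (RedPts82.Hopf.fn ψ).injective (appTop_injective_of_ker_eq_bot u.left hdom h2)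
  let eQ := (RedPts82.Hopf.sch ψ')
  let eG := (RedPts82.Hopf.sch ψ)
  have hwQ : eQ.hom ≫ Q.hom = Spec.map (CommRingCat.ofHom (algebraMap k B)) := Over.w ψ'.hom
  have hwG : eG.hom ≫ G'.hom = Spec.map (CommRingCat.ofHom (algebraMap k A)) := Over.w ψ.hom
  haveI : Algebra.FiniteType k B := by
    have h : LocallyOfFiniteType (eQ.hom ≫ Q.hom) := inferInstance
    rw [hwQ, HasRingHomProperty.Spec_iff (P := @LocallyOfFiniteType)] at h
    exact RingHom.finiteType_algebraMap.1 h
  haveI hA : Algebra.FiniteType k A := finiteType_of_injective φ hinj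
  have hGft : LocallyOfFiniteType G'.hom := by
    rw [← MorphismProperty.cancel_left_of_respectsIso (P := @LocallyOfFiniteType) eG.hom, hwG,
      HasRingHomProperty.Spec_iff (P := @LocallyOfFiniteType)]
    exact RingHom.finiteType_algebraMap.2 hA
  have hff := Comod33.HopfFlat.faithfullyFlat_of_injective φ hinj
  have hsq : eQ.hom ≫ m.left = Spec.map (CommRingCat.ofHom (φ : A →+* B)) ≫ eG.hom := by
    have h1 : RedPts82.Hopf.e ψ' B (WithConv.toConv (AlgHom.id k B)) ≫ m =
        RedPts82.Hopf.e ψ B (WithConv.toConv (φ : A →ₐ[k] B)) := by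
      rw [RedPts82.Hopf.e_comp ψ ψ' m]
      rfl
    have h2 := congrArg (fun t => t.left) h1
    rw [Over.comp_left, RedPts82.Hopf.e_id] at h2
    exact h2
  have hmf : Flat m.left ∧ Surjective m.left := by
    have h1 : Flat (eQ.hom ≫ m.left) ∧ Surjective (eQ.hom ≫ m.left) := by
      rw [hsq]
      have := (flat_and_surjective_SpecMap_iff (CommRingCat.ofHom (φ : A →+* B))).2 hff
      exact ⟨MorphismProperty.comp_mem _ _ _ this.1 inferInstance,
        MorphismProperty.comp_mem _ _ _ this.2 inferInstance⟩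
    exact ⟨(MorphismProperty.cancel_left_of_respectsIso (P := @Flat) eQ.hom _).1 h1.1,
      (MorphismProperty.cancel_left_of_respectsIso (P := @Surjective) eQ.hom _).1 h1.2⟩
  haveI := hmf.1
  haveI := hmf.2
  refine ⟨?_, ?_, hGft⟩
  · rw [← hm₀]; exact MorphismProperty.comp_mem _ _ _ hqf hmf.1
  · rw [← hm₀]; exact MorphismProperty.comp_mem _ _ _ hqs hmf.2

end Groth.Agent.GrpFG58
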