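import Mathlib.RingTheory.HopfAlgebra.Quotient
import Mathlib.RingTheory.HopfAlgebra.Convolution
import Mathlib.RingTheory.FiniteType
import Mathlib.RingTheory.IntegralClosure.IsIntegralClosure.Basic
import Mathlib.Algebra.CharP.Algebra
import Mathlib.Algebra.CharP.Lemmas

/-!
The Frobenius kernels of a commutative Hopf algebra in positive characteristic.
-/

set_option autoImplicit false
set_option linter.style.haveILetI false

universe u

open TensorProduct

noncomputable section

namespace Groth.Agent.GrpFG58

variable (k A : Type u) [Field k] [CommRing A] [HopfAlgebra k A] (p : ℕ) (n : ℕ)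

/-- The ideal generated by the `p^n`-th powers of the augmentation ideal. -/
def frobIdeal : Ideal A := Ideal.span ((fun x => x ^ p ^ n) '' {x : A | Coalgebra.counit (R := k) x = 0})

variable {k A p}

theorem frobIdeal_le_pow [Fact p.Prime] : frobIdeal k A p n ≤
    RingHom.ker (Bialgebra.counitAlgHom k A) ^ (p ^ n) := by
  refine Ideal.span_le.2 ?_
  rintro _ ⟨x, hx, rfl⟩
  exact Ideal.pow_mem_pow hx _

theorem frobIdeal_le_ker [hp : Fact p.Prime] {n : ℕ} : frobIdeal k A p n ≤ RingHom.ker (Bialgebra.counitAlgHom k A) :=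
  (frobIdeal_le_pow n).trans (Ideal.pow_le_self (pow_ne_zero _ hp.out.ne_zero))

theorem isHopfIdeal_frobIdeal [Fact p.Prime] [CharP k p] : (frobIdeal k A p n).IsHopfIdeal k := by
  let I := frobIdeal k A p n
  haveI : Nontrivial A := (Bialgebra.counitAlgHom k A).domain_nontrivial
  haveI : Nontrivial (A ⊗[k] A) :=
    (Algebra.TensorProduct.lift (Bialgebra.counitAlgHom k A) (Bialgebra.counitAlgHom k A)
      (fun _ _ => Commute.all _ _)).domain_nontrivial
  haveI : CharP A p := charP_of_injective_algebraMap' k p
  haveI : CharP (A ⊗[k] A) p := charP_of_injective_algebraMap' k p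
  let m := Ideal.Quotient.mkₐ k I
  let ε := Bialgebra.counitAlgHom k A
  have hm : ∀ a : A, m (a ^ p ^ n) = algebraMap k (A ⧸ I) (ε a ^ p ^ n) := fun a => by
    rw [← AlgHom.commutes m, map_pow (algebraMap k A)]
    refine sub_eq_zero.1 ?_
    rw [← map_sub, ← sub_pow_char_pow]
    refine Ideal.Quotient.eq_zero_iff_mem.2 (Ideal.subset_span ⟨_, ?_, rfl⟩)
    show ε (a - algebraMap k A (ε a)) = 0
    rw [map_sub, AlgHom.commutes]
    exact sub_self _
  let E : A ⊗[k] A →ₐ[k] k := Algebra.TensorProduct.lift ε ε (fun _ _ => Commute.all _ _)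
  have hmap : ∀ z : A ⊗[k] A, Algebra.TensorProduct.map m m (z ^ p ^ n) = algebraMap k _ (E z ^ p ^ n) := by
    intro z
    induction z with
    | zero => simp [zero_pow (pow_ne_zero n (Fact.out : p.Prime).ne_zero)]
    | add a b ha hb =>
      rw [add_pow_char_pow, map_add, ha, hb, map_add E, add_pow_char_pow, map_add]
    | tmul a b =>
      rw [Algebra.TensorProduct.tmul_pow, Algebra.TensorProduct.map_tmul, hm, hm]
      simp [E, mul_pow, Algebra.algebraMap_eq_smul_one, TensorProduct.smul_tmul', TensorProduct.tmul_smul,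
        smul_smul, mul_comm, Algebra.TensorProduct.one_def]
  have hE : ∀ a, E (Bialgebra.comulAlgHom k A a) = ε a := fun a => by
    show E (Coalgebra.comul (R := k) a) = _
    have key : ∀ z : A ⊗[k] A, E z = ε (TensorProduct.lid k A ((Coalgebra.counit (R := k) (A := A)).rTensor A z)) := by
      intro z
      induction z with
      | zero => simp
      | add a b ha hb => simp only [map_add, ha, hb]
      | tmul a b => simp [E, ε]
    rw [key, Coalgebra.rTensor_counit_comul, TensorProduct.lid_tmul, one_smul]
  have hcoid : (I.restrictScalars k).IsCoideal := by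
    constructor
    · intro x hx
      exact frobIdeal_le_ker hx
    · intro x hx
      show Algebra.TensorProduct.map m m (Bialgebra.comulAlgHom k A x) = 0
      refine Submodule.span_induction (p := fun x _ => Algebra.TensorProduct.map m m (Bialgebra.comulAlgHom k A x) = 0)
        ?_ (by simp) (fun a b _ _ ha hb => by rw [map_add, map_add, ha, hb, add_zero])
        (fun c a _ ha => by rw [smul_eq_mul, map_mul, map_mul, ha, mul_zero]) hx
      rintro _ ⟨y, hy, rfl⟩
      rw [map_pow (Bialgebra.comulAlgHom k A), hmap, hE, show ε y = 0 from hy,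
        zero_pow (pow_ne_zero n (Fact.out : p.Prime).ne_zero), map_zero]
  refine { hcoid with antipode_mem := fun x hx => ?_ }
  refine Submodule.span_induction (p := fun x _ => HopfAlgebraStruct.antipode (R := k) x ∈ I)
    ?_ (by simp) (fun a b _ _ ha hb => by rw [map_add]; exact I.add_mem ha hb)
    (fun c a _ ha => ?_) hx
  · rintro _ ⟨y, hy, rfl⟩
    refine Ideal.subset_span ⟨HopfAlgebra.antipodeAlgHom k A y, ?_, ?_⟩
    · exact (HopfAlgebra.counit_antipode y).trans hy
    · exact (map_pow (HopfAlgebra.antipodeAlgHom k A) y _).symm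
  · show HopfAlgebra.antipodeAlgHom k A (c • a) ∈ I
    rw [smul_eq_mul, map_mul]
    exact I.mul_mem_left _ ha

theorem finite_quotient_frobIdeal [Algebra.FiniteType k A] [Fact p.Prime] [CharP k p] :
    Module.Finite k (A ⧸ frobIdeal k A p n) := by
  haveI : Algebra.IsIntegral k (A ⧸ frobIdeal k A p n) := ⟨fun z => by
    obtain ⟨x, rfl⟩ := Ideal.Quotient.mk_surjective z
    let c := Coalgebra.counit (R := k) x
    refine ⟨(Polynomial.X - Polynomial.C c) ^ p ^ n, (Polynomial.monic_X_sub_C c).pow _, ?_⟩
    rw [Polynomial.eval₂_pow, Polynomial.eval₂_sub, Polynomial.eval₂_X, Polynomial.eval₂_C,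
      IsScalarTower.algebraMap_apply k A (A ⧸ frobIdeal k A p n), Ideal.Quotient.algebraMap_eq, ← map_sub, ← map_pow,
      Ideal.Quotient.eq_zero_iff_mem]
    refine Ideal.subset_span ⟨_, ?_, rfl⟩
    show Bialgebra.counitAlgHom k A (x - algebraMap k A c) = 0
    rw [map_sub, AlgHom.commutes]
    exact sub_self _⟩
  haveI : Algebra.FiniteType k (A ⧸ frobIdeal k A p n) :=
    Algebra.FiniteType.of_surjective (Ideal.Quotient.mkₐ k _) Ideal.Quotient.mk_surjective
  exact Algebra.IsIntegral.finite

end Groth.Agent.GrpFG58
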