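import Groth.Agent.GrpFG58.FrobKer
import Groth.Agent.RedPts82.HopfCoord
import Groth.Agent.QAGrp57.Hom
import Groth.Agent.SGA3a.AbelianCat
import Groth.Agent.Comod33.CartierReduced
import Mathlib.AlgebraicGeometry.AlgClosed.Basic
import Mathlib.RingTheory.Filtration
import Mathlib.AlgebraicGeometry.Morphisms.QuasiFinite

/-!
A homomorphism of affine commutative algebraic groups bijective on finite subgroups and on geometric points.
-/

set_option autoImplicit false
set_option linter.style.haveILetI false
set_option backward.isDefEq.respectTransparency.types false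
universe u

open CategoryTheory CategoryTheory.Limits MonoidalCategory CartesianMonoidalCategory AlgebraicGeometry
open scoped MonObj
open Groth.Agent.SGA3a

noncomputable section

namespace Groth.Agent.GrpFG58

variable {k : Type u} [Field k] (K : Type u) [Field K] [Algebra k K] [IsAlgClosed K]

/-- A closed point carries a point with values in an algebraically closed field. -/
theorem exists_kpoint (X : Over (Spec (CommRingCat.of k))) [LocallyOfFiniteType X.hom] {x : X.left}
    (hx : IsClosed ({x} : Set X.left)) :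
    ∃ t : Over.mk (Spec.map (CommRingCat.ofHom (algebraMap k K))) ⟶ X,
      ∀ q : ↥(Spec (CommRingCat.of K)), t.left.base q = x := by
  haveI : IsClosedImmersion (X.left.fromSpecResidueField x) := isClosed_singleton_iff_isClosedImmersion.1 hx
  haveI : LocallyOfFiniteType (X.left.fromSpecResidueField x ≫ X.hom) := MorphismProperty.comp_mem _ _ _ inferInstance ‹_›
  haveI : JacobsonSpace ↥(Spec (CommRingCat.of k)) := inferInstanceAs (JacobsonSpace (PrimeSpectrum k))
  haveI : IsFinite (X.left.fromSpecResidueField x ≫ X.hom) :=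
    isFinite_iff_locallyOfFiniteType_of_jacobsonSpace.2 inferInstance
  obtain ⟨φ, hφ⟩ := Spec.map_surjective (X.left.fromSpecResidueField x ≫ X.hom)
  have hfin : φ.hom.Finite := by
    rw [← IsFinite.SpecMap_iff, hφ]
    infer_instance
  letI : Algebra k (X.left.residueField x) := φ.hom.toAlgebra
  haveI : Module.Finite k (X.left.residueField x) := hfin
  let e : X.left.residueField x →ₐ[k] K := IsAlgClosed.lift
  refine ⟨Over.homMk (Spec.map (CommRingCat.ofHom e.toRingHom) ≫ X.left.fromSpecResidueField x) ?_, fun q => ?_⟩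
  · show (Spec.map _ ≫ _) ≫ X.hom = Spec.map _
    rw [Category.assoc, ← hφ, ← Spec.map_comp]
    exact congrArg (fun r => Spec.map r) (CommRingCat.hom_ext e.comp_algebraMap)
  · exact X.left.fromSpecResidueField_apply x _

variable {G H : Over (Spec (CommRingCat.of k))}

theorem jacobsonSpace_of_lft (X : Over (Spec (CommRingCat.of k))) [LocallyOfFiniteType X.hom] :
    JacobsonSpace X.left :=
  haveI : JacobsonSpace ↥(Spec (CommRingCat.of k)) := inferInstanceAs (JacobsonSpace (PrimeSpectrum k))
  LocallyOfFiniteType.jacobsonSpace X.hom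

/-- A morphism surjective on points with values in an algebraically closed field, with closed range. -/
theorem surjective_of_kpoints [LocallyOfFiniteType H.hom] (ψ : G ⟶ H) [IsClosedImmersion ψ.left]
    (hpts : ∀ h : Over.mk (Spec.map (CommRingCat.ofHom (algebraMap k K))) ⟶ H, ∃ g, g ≫ ψ = h) :
    Surjective ψ.left := by
  haveI := jacobsonSpace_of_lft H
  refine ⟨fun y => ?_⟩
  have hsub : closedPoints H.left ⊆ Set.range ψ.left.base := fun x hx => by
    obtain ⟨h, hh⟩ := exists_kpoint K H hx
    obtain ⟨g, rfl⟩ := hpts h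
    let q : ↥(Spec (CommRingCat.of K)) := IsLocalRing.closedPoint K
    exact ⟨g.left.base q, by rw [← Scheme.Hom.comp_apply, ← Over.comp_left]; exact hh q⟩
  have := closure_minimal hsub ψ.left.isClosedEmbedding.isClosed_range
  rw [closure_closedPoints] at this
  exact this trivial

variable [GrpObj G] [GrpObj H] [LocallyOfFiniteType G.hom] [LocallyOfFiniteType H.hom] [IsAffine G.left]
  [IsAffine H.left]

/-- The kernel is finite if the map is injective on geometric points. -/
theorem isFinite_ker (ψ : G ⟶ H) [IsMonHom ψ]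
    (hpts : Function.Injective fun x : Over.mk (Spec.map (CommRingCat.ofHom (algebraMap k K))) ⟶ G => x ≫ ψ) :
    IsFinite (GrpHomFinite.ker ψ).hom := by
  haveI : IsSeparated H.hom := AlgGrp79.isSeparated_grp H
  haveI : IsClosedImmersion (η[H] : 𝟙_ _ ⟶ H).left := by
    have h : IsClosedImmersion ((η[H] : 𝟙_ _ ⟶ H).left ≫ H.hom) := by
      rw [Over.w]
      exact inferInstanceAs (IsClosedImmersion (𝟙 _))
    exact IsClosedImmersion.of_comp _ H.hom
  let N := GrpHomFinite.ker ψ
  let i := GrpHomFinite.kerι ψ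
  haveI : IsClosedImmersion i.left := MorphismProperty.pullback_fst (P := @IsClosedImmersion) _ _ inferInstance
  haveI : LocallyOfFiniteType N.hom := by
    rw [← Over.w i]; infer_instance
  haveI : QuasiCompact N.hom := by
    rw [← Over.w i]; infer_instance
  haveI := jacobsonSpace_of_lft N
  let q : ↥(Spec (CommRingCat.of K)) := IsLocalRing.closedPoint K
  have hone : ∀ z ∈ closedPoints N.left, i.left.base z =
      (1 : Over.mk (Spec.map (CommRingCat.ofHom (algebraMap k K))) ⟶ G).left.base q := by
    intro z hz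
    obtain ⟨t, ht⟩ := exists_kpoint K N hz
    have h1 : (t ≫ i) ≫ ψ = (1 : Over.mk (Spec.map (CommRingCat.ofHom (algebraMap k K))) ⟶ G) ≫ ψ := by
      rw [Category.assoc, show i ≫ ψ = 1 by simpa using AlgGrp79.isKernel_comp_one (GrpHomFinite.isKernel_ker ψ) (𝟙 _),
        MonObj.comp_one, MonObj.one_comp]
    rw [← hpts h1, Over.comp_left, Scheme.Hom.comp_apply, ht q]
  have hfin : (closedPoints N.left).Finite := Set.Subsingleton.finite fun a ha b hb =>
    i.left.isClosedEmbedding.injective ((hone a ha).trans (hone b hb).symm)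
  haveI : DiscreteTopology N.left := JacobsonSpace.discreteTopology hfin
  haveI : LocallyQuasiFinite N.hom :=
    locallyQuasiFinite_iff_isDiscrete_preimage_singleton.2 fun y => isDiscrete_iff_discreteTopology.2 inferInstance
  haveI : IsLocallyArtinian (Spec (CommRingCat.of k)) := inferInstance
  exact IsFinite.of_locallyQuasiFinite N.hom

variable [IsCommMonObj G]

/-- Injectivity on finite groups and geometric points gives a monomorphism. -/
theorem mono_of_inj (ψ : G ⟶ H) [IsMonHom ψ]
    (hinj : ∀ (I : Over (Spec (CommRingCat.of k))) [GrpObj I] [IsCommMonObj I] [IsFinite I.hom]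
      (f g : I ⟶ G) [IsMonHom f] [IsMonHom g], f ≫ ψ = g ≫ ψ → f = g)
    (hpts : Function.Injective fun x : Over.mk (Spec.map (CommRingCat.ofHom (algebraMap k K))) ⟶ G => x ≫ ψ) :
    Mono ψ := by
  obtain ⟨_, _⟩ := QAGrp57.exists_grpObj_ker ψ
  let N := GrpHomFinite.ker ψ
  let i := GrpHomFinite.kerι ψ
  haveI : Mono i := AlgGrp79.mono_of_isKernel (GrpHomFinite.isKernel_ker ψ)
  haveI : IsCommMonObj N := AbelianCat.isCommMonObj_of_mono i
  haveI : IsFinite N.hom := isFinite_ker K ψ hpts
  have hi : i ≫ ψ = 1 := by simpa using AlgGrp79.isKernel_comp_one (GrpHomFinite.isKernel_ker ψ) (𝟙 _)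
  haveI : IsMonHom (1 : N ⟶ G) := by
    rw [Hom.one_def]
    infer_instance
  have h1 : i = 1 := hinj N i 1 (by rw [hi, MonObj.one_comp])
  refine ⟨fun {T} a b hab => ?_⟩
  have h : (a⁻¹ * b) ≫ ψ = 1 := by rw [MonObj.mul_comp, GrpObj.inv_comp, hab, inv_mul_cancel]
  obtain ⟨m, hm⟩ := AlgGrp79.exists_ker_of_comp_one (GrpHomFinite.isKernel_ker ψ) _ h
  rw [show GrpHomFinite.kerι ψ = 1 from h1, MonObj.comp_one] at hm
  exact inv_mul_eq_one.1 hm.symm

variable [IsCommMonObj H]

/-- Bijectivity on finite groups and on geometric points gives an isomorphism. -/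
theorem isIso_of_bijective (ψ : G ⟶ H) [IsMonHom ψ]
    (hinj : ∀ (I : Over (Spec (CommRingCat.of k))) [GrpObj I] [IsCommMonObj I] [IsFinite I.hom]
      (f g : I ⟶ G) [IsMonHom f] [IsMonHom g], f ≫ ψ = g ≫ ψ → f = g)
    (hsurj : ∀ (I : Over (Spec (CommRingCat.of k))) [GrpObj I] [IsCommMonObj I] [IsFinite I.hom]
      (h : I ⟶ H) [IsMonHom h], ∃ f : I ⟶ G, IsMonHom f ∧ f ≫ ψ = h)
    (hpts : Function.Bijective fun x : Over.mk (Spec.map (CommRingCat.ofHom (algebraMap k K))) ⟶ G => x ≫ ψ) :
    IsIso ψ := by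
  classical
  haveI := mono_of_inj K ψ hinj hpts.1
  haveI : Mono ψ.left := (Over.forget _).map_mono ψ
  haveI : IsSeparated H.hom := AlgGrp79.isSeparated_grp H
  haveI : QuasiCompact ψ.left := inferInstance
  haveI : IsClosedImmersion ψ.left := GrpHomFinite.isClosedImmersion_of_mono ψ
  haveI : Surjective ψ.left := surjective_of_kpoints K ψ fun h => hpts.2 h
  obtain ⟨A, _, _, eA, heA⟩ := RedPts82.Hopf.exists_coord H
  obtain ⟨B, _, _, eB, heB⟩ := RedPts82.Hopf.exists_coord G
  let φ := RedPts82.Hopf.pull eA eB ψ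
  have hφs : Function.Surjective φ := RedPts82.Hopf.pull_surjective eA eB ψ
  let sA := RedPts82.Hopf.sch eA
  let sB := RedPts82.Hopf.sch eB
  have hsq : sB.hom ≫ ψ.left = Spec.map (CommRingCat.ofHom φ.toRingHom) ≫ sA.hom := by
    have h1 : RedPts82.Hopf.e eB B (WithConv.toConv (AlgHom.id k B)) ≫ ψ =
        RedPts82.Hopf.e eA B (WithConv.toConv φ) := by
      rw [RedPts82.Hopf.e_comp eA eB ψ]
      rfl
    have h2 := congrArg (fun t => t.left) h1
    rw [Over.comp_left, RedPts82.Hopf.e_id] at h2
    exact h2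
  haveI : Algebra.FiniteType k A := by
    have h : LocallyOfFiniteType (sA.hom ≫ H.hom) := inferInstance
    rw [show sA.hom ≫ H.hom = Spec.map (CommRingCat.ofHom (algebraMap k A)) from Over.w eA.hom,
      HasRingHomProperty.Spec_iff (P := @LocallyOfFiniteType)] at h
    exact RingHom.finiteType_algebraMap.1 h
  haveI : IsNoetherianRing A := Algebra.FiniteType.isNoetherianRing k A
  let J := RingHom.ker φ
  let M : Ideal A := RingHom.ker (Bialgebra.counitAlgHom k A)
  have hnil : J ≤ nilradical A := by
    intro x hx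
    rw [nilradical_eq_sInf, Submodule.mem_sInf]
    intro P hP
    haveI : Surjective (Spec.map (CommRingCat.ofHom φ.toRingHom)) := by
      have h : Surjective (Spec.map (CommRingCat.ofHom φ.toRingHom) ≫ sA.hom) := by
        rw [← hsq]; infer_instance
      exact (MorphismProperty.cancel_right_of_respectsIso (P := @Surjective) _ sA.hom).1 h
    obtain ⟨Q, hQ⟩ := (Spec.map (CommRingCat.ofHom φ.toRingHom)).surjective (⟨P, hP⟩ : PrimeSpectrum A)
    have hQ' : Q.asIdeal.comap φ.toRingHom = P := congrArg PrimeSpectrum.asIdeal hQ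
    rw [← hQ', Ideal.mem_comap, show φ.toRingHom x = 0 from hx]
    exact Q.asIdeal.zero_mem
  -- the ideal vanishes near the unit
  obtain ⟨a, haM, haJ⟩ : ∃ a, a ∉ M ∧ ∀ x ∈ J, a * x = 0 := by
    have hone : (1 : A) ∉ M := fun h => by simp [M] at h
    obtain hc | ⟨p, hp, hpc⟩ : CharZero k ∨ ∃ p, Fact p.Prime ∧ CharP k p := by
      obtain ⟨p, hp⟩ := CharP.exists k
      rcases CharP.char_is_prime_or_zero k p with h | h
      · exact Or.inr ⟨p, ⟨h⟩, hp⟩
      · subst h; exact Or.inl (CharP.charP_to_charZero k)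
    · haveI := hc
      haveI : _root_.IsReduced A := Comod33.Aug.isReduced_of_charZero (k := k)
      refine ⟨1, hone, fun x hx => ?_⟩
      rw [one_mul]
      exact IsReduced.eq_zero x (mem_nilradical.1 (hnil hx))
    · haveI := hp
      haveI := hpc
      have hle : ∀ n, J ≤ M ^ n := fun n => by
        haveI := isHopfIdeal_frobIdeal (k := k) (A := A) (p := p) n
        haveI := finite_quotient_frobIdeal (k := k) (A := A) (p := p) n
        let Q := A ⧸ frobIdeal k A p n
        let Iobj := RedPts82.Hopf.sp k Q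
        let π : A →ₐc[k] Q := Bialgebra.Quotient.mkBialgHom (frobIdeal k A p n)
        let h : Iobj ⟶ H := RedPts82.Hopf.spHom π ≫ eA.hom
        haveI : IsMonHom h := inferInstanceAs (IsMonHom (RedPts82.Hopf.spHom π ≫ eA.hom))
        haveI : IsClosedImmersion (Spec.map (CommRingCat.ofHom (π : A →ₐ[k] Q).toRingHom)) :=
          IsClosedImmersion.spec_of_surjective _ Ideal.Quotient.mk_surjective
        haveI : Mono h.left := by
          show Mono (Spec.map (CommRingCat.ofHom (π : A →ₐ[k] Q).toRingHom) ≫ sA.hom)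
          infer_instance
        haveI : Mono h := Over.mono_of_mono_left _
        haveI : IsCommMonObj Iobj := AbelianCat.isCommMonObj_of_mono h
        haveI : IsFinite Iobj.hom := by
          show IsFinite (Spec.map (CommRingCat.ofHom (algebraMap k Q)))
          rw [IsFinite.SpecMap_iff]
          exact RingHom.finite_algebraMap.2 inferInstance
        obtain ⟨f, -, hf⟩ := hsurj Iobj h
        obtain ⟨χ, hχ⟩ := Spec.map_surjective (f.left ≫ sB.inv)
        have heq : CommRingCat.ofHom φ.toRingHom ≫ χ = CommRingCat.ofHom (π : A →ₐ[k] Q).toRingHom := by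
          apply Spec.map_injective
          rw [Spec.map_comp, hχ, ← cancel_mono sA.hom, Category.assoc, Category.assoc, ← hsq, Iso.inv_hom_id_assoc]
          exact (congrArg (fun t => t.left) hf).trans rfl
        intro x hx
        have h0 : (π : A →ₐ[k] Q) x = 0 :=
          (congrArg (fun r => r.hom x) heq).symm.trans ((congrArg χ.hom hx).trans (map_zero _))
        exact Ideal.pow_le_pow_right (Nat.lt_pow_self hp.out.one_lt).le
          (frobIdeal_le_pow n (Ideal.Quotient.eq_zero_iff_mem.1 h0))
      choose r hr using fun x : J => (M.mem_iInf_smul_pow_eq_bot_iff (x.1 : A)).1 (by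
        rw [Submodule.mem_iInf]
        intro i
        rw [smul_eq_mul, Ideal.mul_top]
        exact hle i x.2)
      obtain ⟨s, hs⟩ := (IsNoetherian.noetherian J : J.FG)
      refine ⟨∏ y ∈ s.attach, (1 - (r ⟨y.1, hs.le (Submodule.subset_span y.2)⟩ : A)), ?_, ?_⟩
      · haveI : M.IsPrime := RingHom.ker_isPrime _
        rw [‹M.IsPrime›.prod_mem_iff]
        rintro ⟨y, -, hy⟩
        exact hone (by simpa using add_mem hy (r ⟨y.1, hs.le (Submodule.subset_span y.2)⟩).2)
      · intro x hx
        rw [← hs] at hx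
        induction hx using Submodule.span_induction with
        | mem y hy =>
          rw [← Finset.prod_erase_mul _ _ (Finset.mem_attach s ⟨y, hy⟩), mul_assoc, sub_mul, one_mul]
          rw [show (r ⟨y, hs.le (Submodule.subset_span hy)⟩ : A) * y = y from hr ⟨y, hs.le (Submodule.subset_span hy)⟩]
          rw [sub_self, mul_zero]
        | zero => rw [mul_zero]
        | add u v _ _ hu hv => rw [mul_add, hu, hv, add_zero]
        | smul c u _ hu => rw [smul_eq_mul, mul_left_comm, hu, mul_zero]
  -- an isomorphism over a neighbourhood of the unit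
  let Aa := Localization.Away a
  let l₀ : A →+* Aa := algebraMap A Aa
  have hl : J ≤ RingHom.ker l₀ := fun x hx => by
    rw [RingHom.mem_ker]
    refine (IsLocalization.Away.algebraMap_isUnit (S := Aa) a).mul_right_eq_zero.1 ?_
    rw [← map_mul, haJ x hx, map_zero]
  let l : B →+* Aa := RingHom.liftOfRightInverse φ.toRingHom (Function.surjInv hφs) (Function.rightInverse_surjInv hφs) ⟨l₀, hl⟩
  have hlφ : l.comp φ.toRingHom = l₀ := RingHom.liftOfRightInverse_comp φ.toRingHom _ _ ⟨l₀, hl⟩
  let j : Spec (CommRingCat.of Aa) ⟶ H.left := Spec.map (CommRingCat.ofHom l₀) ≫ sA.hom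
  haveI : IsOpenImmersion (Spec.map (CommRingCat.ofHom l₀)) := IsOpenImmersion.of_isLocalization a
  haveI : IsOpenImmersion j := inferInstanceAs (IsOpenImmersion (Spec.map (CommRingCat.ofHom l₀) ≫ sA.hom))
  let W := j.opensRange
  let s₀ : (W : Scheme.{u}) ⟶ G.left := j.isoOpensRange.inv ≫ Spec.map (CommRingCat.ofHom l) ≫ sB.hom
  have hs₀ : s₀ ≫ ψ.left = W.ι := by
    show (j.isoOpensRange.inv ≫ Spec.map (CommRingCat.ofHom l) ≫ sB.hom) ≫ ψ.left = _
    rw [Category.assoc, Category.assoc, hsq, ← Spec.map_comp_assoc]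
    refine Eq.trans ?_ (j.isoOpensRange_inv_comp)
    congr 1
    exact congrArg (fun r => Spec.map (CommRingCat.ofHom r) ≫ sA.hom) hlφ
  have hnear : TargetLocus.NearT (MorphismProperty.isomorphisms Scheme.{u}) ψ.left
      ((η[H] : 𝟙_ (Over (Spec (CommRingCat.of k))) ⟶ H).left.base (IsLocalRing.closedPoint k)) := by
    refine ⟨W, ?_, ?_⟩
    · let q : ↥(Spec (CommRingCat.of k)) := IsLocalRing.closedPoint k
      have h1 : (1 : VecGrp.pt k k ⟶ H).left = (η[H] : 𝟙_ _ ⟶ H).left := by
        rw [Hom.one_def, Over.comp_left]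
        show _ ≫ _ = _
        rw [show (toUnit (VecGrp.pt k k)).left = 𝟙 _ from ?_, Category.id_comp]
        rw [Over.toUnit_left]
        show Spec.map (CommRingCat.ofHom (algebraMap k k)) = _
        rw [Algebra.algebraMap_self]
        exact Spec.map_id _
      have h2 : (η[H] : 𝟙_ _ ⟶ H).left = Spec.map (CommRingCat.ofHom (Bialgebra.counitAlgHom k A).toRingHom) ≫ sA.hom := by
        rw [← h1, ← map_one (RedPts82.Hopf.e eA k), RedPts82.Hopf.e_left]
        rfl
      rw [h2]
      have hmem : (Spec.map (CommRingCat.ofHom (Bialgebra.counitAlgHom k A).toRingHom)).base q ∈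
          Set.range (Spec.map (CommRingCat.ofHom l₀)).base := by
        refine (PrimeSpectrum.localization_away_comap_range Aa a).ge ?_
        show a ∉ Ideal.comap (Bialgebra.counitAlgHom k A).toRingHom (IsLocalRing.maximalIdeal k)
        rw [IsLocalRing.maximalIdeal_eq_bot, ← RingHom.ker_eq_comap_bot]
        exact haM
      obtain ⟨z, hz⟩ := hmem
      exact ⟨z, by show sA.hom.base ((Spec.map (CommRingCat.ofHom l₀)).base z) = _; rw [hz]; rfl⟩
    · let s : (W : Scheme.{u}) ⟶ ((ψ.left ⁻¹ᵁ W : G.left.Opens) : Scheme.{u}) :=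
        IsOpenImmersion.lift (ψ.left ⁻¹ᵁ W).ι s₀ (by
          rw [Scheme.Opens.range_ι]
          rintro _ ⟨w, rfl⟩
          show ψ.left.base (s₀.base w) ∈ W
          rw [← Scheme.Hom.comp_apply, hs₀]
          exact w.2)
      have hs' : s ≫ (ψ.left ∣_ W) = 𝟙 _ := by
        rw [← cancel_mono W.ι, Category.assoc, morphismRestrict_ι, IsOpenImmersion.lift_fac_assoc, hs₀, Category.id_comp]
      haveI : IsSplitEpi (ψ.left ∣_ W) := ⟨⟨⟨s, hs'⟩⟩⟩
      haveI : IsClosedImmersion (ψ.left ∣_ W) := IsZariskiLocalAtTarget.restrict ‹IsClosedImmersion ψ.left› W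
      show IsIso (ψ.left ∣_ W)
      exact isIso_of_mono_of_isSplitEpi _
  haveI : (MorphismProperty.isomorphisms Scheme.{u}).DescendsAlong (@Flat ⊓ @Surjective ⊓ @QuasiCompact) :=
    MorphismProperty.DescendsAlong.of_le (Q := Unr55.fpqc.{u}) fun _ _ _ h => ⟨⟨h.1.2, h.1.1⟩, h.2⟩
  have hall : MorphismProperty.isomorphisms Scheme.{u} ψ.left := by
    refine TargetLocus.of_forall_nearT _ fun y => ?_
    obtain ⟨x, rfl⟩ := ψ.left.surjective y
    have := (TargetLocus.nearT_mul_iff (P := MorphismProperty.isomorphisms Scheme.{u}) ψ (𝟙 G) (1 : G ⟶ H) x).1 (by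
      rw [Hom.one_def, Over.comp_left, Scheme.Hom.comp_apply]
      have e : (toUnit G).left.base x = IsLocalRing.closedPoint k := Subsingleton.elim (α := PrimeSpectrum k) _ _
      rw [e]; exact hnear)
    rwa [mul_one, Category.id_comp] at this
  haveI : IsIso ψ.left := hall
  haveI : IsIso ((Over.forget _).map ψ) := inferInstanceAs (IsIso ψ.left)
  exact isIso_of_reflects_iso ψ (Over.forget _)

end Groth.Agent.GrpFG58
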