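import Groth.Agent.GrpFG58.Affine
import Groth.Agent.AlgGrp79.StabQuot
import Groth.Agent.AlgGrp79.SepDense
import Groth.Agent.SGA3a.GrpHomFinite
import Groth.Agent.S4362

/-!
Schematically dominant homomorphisms of an algebraic group to a limit of algebraic groups.
-/

set_option autoImplicit false
set_option linter.style.haveILetI false
set_option backward.isDefEq.respectTransparency.types false
universe u

open CategoryTheory CategoryTheory.Limits MonoidalCategory CartesianMonoidalCategory MonObj GrpObj AlgebraicGeometry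
open Groth.Agent.SGA3a

noncomputable section

namespace Groth.Agent.GrpFG58

variable {k : Type u} [Field k]

theorem flat_surjective_finiteType_of_limit (G : Over (Spec (CommRingCat.of k))) [GrpObj G]
    [LocallyOfFiniteType G.hom] [QuasiCompact G.hom]
    (J : Type u) [SmallCategory J] [IsCofiltered J] (D : J ⥤ Over (Spec (CommRingCat.of k)))
    [∀ j, GrpObj (D.obj j)] [∀ (j j' : J) (φ : j ⟶ j'), IsMonHom (D.map φ)]
    (hD : ∀ j, LocallyOfFiniteType (D.obj j).hom ∧ QuasiCompact (D.obj j).hom)
    (c : Cone D) (hc : IsLimit c) [GrpObj c.pt] [∀ j, IsMonHom (M := c.pt) (N := D.obj j) (c.π.app j)]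
    (u : G ⟶ c.pt) [IsMonHom u] [QuasiCompact u.left] (hdom : u.left.ker = ⊥) :
    Flat u.left ∧ Surjective u.left ∧ LocallyOfFiniteType c.pt.hom ∧ QuasiCompact c.pt.hom := by
  classical
  haveI : IsSeparated G.hom := AlgGrp79.isSeparated_grp G
  haveI hsep : ∀ j, IsSeparated (D.obj j).hom := fun j => AlgGrp79.isSeparated_grp _
  haveI : IsLocallyNoetherian G.left := LocallyOfFiniteType.isLocallyNoetherian G.hom
  haveI : CompactSpace G.left := QuasiCompact.compactSpace_of_compactSpace G.hom
  haveI : IsNoetherian G.left := ⟨⟩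
  let uj : ∀ j, G ⟶ D.obj j := fun j => u ≫ c.π.app j
  haveI : ∀ j, IsMonHom (uj j) := fun j => inferInstanceAs (IsMonHom (u ≫ c.π.app j))
  have hw : ∀ {i j : J} (φ : i ⟶ j), uj i ≫ D.map φ = uj j := fun φ => by
    show (u ≫ c.π.app _) ≫ _ = u ≫ c.π.app _
    rw [Category.assoc, c.w]
  haveI : ∀ j, IsClosedImmersion (η[D.obj j] : 𝟙_ _ ⟶ D.obj j).left := fun j => by
    have h : IsClosedImmersion ((η[D.obj j] : 𝟙_ _ ⟶ D.obj j).left ≫ (D.obj j).hom) := by
      rw [Over.w]
      exact inferInstanceAs (IsClosedImmersion (𝟙 _))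
    exact IsClosedImmersion.of_comp _ (D.obj j).hom
  haveI hcl : ∀ j, IsClosedImmersion (GrpHomFinite.kerι (uj j)).left := fun j =>
    MorphismProperty.pullback_fst (P := @IsClosedImmersion) _ _ inferInstance
  haveI := S4362.result G.left
  haveI : Nonempty J := IsCofiltered.nonempty
  obtain ⟨_, ⟨j₀, rfl⟩, hmax⟩ := (wellFounded_gt (α := G.left.IdealSheafData)).has_min
    (Set.range fun j => (GrpHomFinite.kerι (uj j)).left.ker) (Set.range_nonempty _)
  -- the kernel at the stable stage is killed at every stage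
  have hkill : ∀ j, GrpHomFinite.kerι (uj j₀) ≫ uj j = 1 := fun j => by
    let i := IsCofiltered.min j₀ j
    let φ : i ⟶ j₀ := IsCofiltered.minToLeft _ _
    let ψ : i ⟶ j := IsCofiltered.minToRight _ _
    have h1 : GrpHomFinite.kerι (uj i) ≫ uj i = 1 := by
      simpa using AlgGrp79.isKernel_comp_one (GrpHomFinite.isKernel_ker (uj i)) (𝟙 _)
    have h2 : GrpHomFinite.kerι (uj i) ≫ uj j₀ = 1 := by
      rw [← hw φ, ← Category.assoc, h1, MonObj.one_comp]
    obtain ⟨a, ha⟩ := AlgGrp79.exists_ker_of_comp_one (GrpHomFinite.isKernel_ker (uj j₀)) (GrpHomFinite.kerι (uj i)) h2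
    have hle : (GrpHomFinite.kerι (uj j₀)).left.ker ≤ (GrpHomFinite.kerι (uj i)).left.ker := by
      rw [← ha, Over.comp_left]
      exact Scheme.Hom.le_ker_comp _ _
    have heq := (hle.eq_or_lt).resolve_right fun hlt => hmax _ ⟨i, rfl⟩ hlt
    let b₀ := IsClosedImmersion.lift (GrpHomFinite.kerι (uj i)).left (GrpHomFinite.kerι (uj j₀)).left heq.ge
    have hb₀ : b₀ ≫ (GrpHomFinite.kerι (uj i)).left = (GrpHomFinite.kerι (uj j₀)).left :=
      IsClosedImmersion.lift_fac _ _ _
    let b : GrpHomFinite.ker (uj j₀) ⟶ GrpHomFinite.ker (uj i) := Over.homMk b₀ (by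
      rw [← Over.w (GrpHomFinite.kerι (uj i)), ← Category.assoc, hb₀, Over.w])
    have hb : b ≫ GrpHomFinite.kerι (uj i) = GrpHomFinite.kerι (uj j₀) := Over.OverMorphism.ext hb₀
    rw [← hw ψ, ← hb, Category.assoc, ← Category.assoc (GrpHomFinite.kerι (uj i)), h1, MonObj.one_comp,
      MonObj.comp_one]
  haveI := (hD j₀).1
  haveI : LocallyOfFinitePresentation G.hom := LocallyOfFinitePresentation.iff_locallyOfFiniteType.2 ‹_›
  obtain ⟨Q, hQ, q, hq, ⟨hsurj, hflat, hlfp, -⟩, hQlfp, m, hm, hmono, hqm⟩ :=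
    AlgGrp79.StabQuot.exists_quotient_kernel G (D.obj j₀) (Or.inl inferInstance) (uj j₀) (GrpHomFinite.ker (uj j₀))
      (GrpHomFinite.kerι (uj j₀)) (GrpHomFinite.isKernel_ker (uj j₀))
  haveI : QuasiCompact Q.hom := by
    have : QuasiCompact (q.left ≫ Q.hom) := by rw [Over.w]; infer_instance
    exact QuotCover.quasiCompact_of_comp q.left Q.hom
  haveI : IsSeparated Q.hom := AlgGrp79.isSeparated_grp Q
  haveI : QuasiCompact q.left := by
    have : QuasiCompact (q.left ≫ Q.hom) := by rw [Over.w]; infer_instance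
    exact QuasiCompact.of_comp q.left Q.hom
  haveI := hflat
  haveI := hsurj
  haveI : Epi q.left := Flat.epi_of_flat_of_surjective q.left
  have hcov : QuotCover.IsCov q.left := isCov_of_flat_surjective q.left
  have hdesc : ∀ j, ∃ mj : Q ⟶ D.obj j, q ≫ mj = uj j := fun j => by
    let T : Over (Spec (CommRingCat.of k)) := Over.mk (pullback.fst q.left q.left ≫ G.hom)
    let a : T ⟶ G := Over.homMk (pullback.fst q.left q.left) rfl
    let b : T ⟶ G := Over.homMk (pullback.snd q.left q.left) (by
      show _ = pullback.fst q.left q.left ≫ G.hom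
      rw [← Over.w q, pullback.condition_assoc])
    have hab : a ≫ q = b ≫ q := Over.OverMorphism.ext pullback.condition
    have hab' : (a⁻¹ * b) ≫ uj j₀ = 1 := by
      rw [← hqm, ← Category.assoc, MonObj.mul_comp, GrpObj.inv_comp, hab, inv_mul_cancel, MonObj.one_comp]
    obtain ⟨n, hn⟩ := AlgGrp79.exists_ker_of_comp_one (GrpHomFinite.isKernel_ker (uj j₀)) _ hab'
    have h3 : (a⁻¹ * b) ≫ uj j = 1 := by rw [← hn, Category.assoc, hkill, MonObj.comp_one]
    rw [MonObj.mul_comp, GrpObj.inv_comp, inv_mul_eq_one] at h3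
    obtain ⟨g, hg, -⟩ := hcov.existsUnique_desc (uj j).left (congrArg (fun t => t.left) h3)
    exact ⟨Over.homMk g (by rw [← cancel_epi q.left, ← Category.assoc, hg, Over.w, Over.w]),
      Over.OverMorphism.ext hg⟩
  choose mj hmj using hdesc
  haveI : Epi q := Over.epi_of_epi_left q
  let cone : Cone D := ⟨Q,
    { app := mj
      naturality := fun i j φ => by
        simp only [Functor.const_obj_obj, Functor.const_obj_map, Category.id_comp]
        rw [← cancel_epi q, ← Category.assoc, hmj, hmj, hw] }⟩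
  let i : Q ⟶ c.pt := hc.lift cone
  have hi : ∀ j, i ≫ c.π.app j = mj j := fun j => hc.fac cone j
  have hqi : q ≫ i = u := hc.hom_ext fun j => by rw [Category.assoc, hi, hmj]
  have hij : i ≫ c.π.app j₀ = m := by rw [hi, ← cancel_epi q, hmj, hqm]
  haveI : IsClosedImmersion i.left := by
    haveI : QuasiCompact (m.left ≫ (D.obj j₀).hom) := by rw [Over.w]; infer_instance
    haveI : QuasiCompact m.left := QuasiCompact.of_comp m.left (D.obj j₀).hom
    haveI : Mono m.left := (Over.forget _).map_mono m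
    haveI : LocallyOfFiniteType Q.hom := inferInstance
    haveI : IsSeparated c.pt.hom := AlgGrp79.isSeparated_grp c.pt
    haveI : IsSeparated ((c.π.app j₀).left ≫ (D.obj j₀).hom) := by
      rw [Over.w]; exact inferInstanceAs (IsSeparated c.pt.hom)
    haveI : IsSeparated (c.π.app j₀).left := IsSeparated.of_comp _ (D.obj j₀).hom
    have h : IsClosedImmersion (i.left ≫ (c.π.app j₀).left) := by
      rw [← Over.comp_left, hij]
      exact GrpHomFinite.isClosedImmersion_of_mono m
    exact IsClosedImmersion.of_comp _ (c.π.app j₀).left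
  haveI : IsIso i.left := IsClosedImmersion.isIso_iff_ker_eq_bot.2 (le_bot_iff.1 (by
    rw [← hdom, ← hqi, Over.comp_left]
    exact Scheme.Hom.le_ker_comp _ _))
  have hu : u.left = q.left ≫ i.left := by rw [← hqi, Over.comp_left]
  refine ⟨hu ▸ inferInstance, hu ▸ inferInstance, ?_, ?_⟩
  · rw [← MorphismProperty.cancel_left_of_respectsIso (P := @LocallyOfFiniteType) i.left, Over.w i]
    infer_instance
  · rw [← MorphismProperty.cancel_left_of_respectsIso (P := @QuasiCompact) i.left, Over.w i]
    infer_instance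

end Groth.Agent.GrpFG58
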