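import Groth.Agent.AlgGrp33.IsogSub
import Groth.Agent.S0383
import Groth.Agent.S11397
import Groth.Agent.S11424
import Groth.Agent.S3024
import Groth.Agent.SGA3a.SubQuot
import Groth.Agent.SGA3a.GrpImageDim
import Groth.Agent.SGA3a.AbelianCat
import Groth.Agent.SGA3a.Affinization
import Groth.Agent.SGA3a.AntiAffineSmooth
import Groth.Agent.AlgGrp79.SmoothDescent
import Groth.Agent.QAGrp57.Hom
import Groth.Agent.RedPts82.ExtTorsion
import Groth.Agent.AGF80.GeomSub

/-!
Commutative algebraic groups killed by a positive integer are affine, hence the power maps of a commutative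
algebraic group are affine.
-/

set_option autoImplicit false
set_option backward.isDefEq.respectTransparency.types false
set_option linter.style.haveILetI false
universe u

open CategoryTheory CategoryTheory.Limits MonoidalCategory CartesianMonoidalCategory MonObj GrpObj AlgebraicGeometry

noncomputable section

namespace Groth.Agent.GrpFG58

theorem isMonHom_pow {C : Type*} [Category C] [CartesianMonoidalCategory C] [BraidedCategory C] (A : C) [GrpObj A]
    [IsCommMonObj A] (n : ℕ) : IsMonHom (𝟙 A ^ n : A ⟶ A) where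
  one_hom := by rw [MonObj.comp_pow, Category.comp_id, MonObj.one_eq_one, one_pow]
  mul_hom := by
    rw [MonObj.comp_pow, Category.comp_id, MonObj.mul_eq_mul, MonObj.comp_mul, tensorHom_fst, tensorHom_snd,
      MonObj.comp_pow, MonObj.comp_pow, Category.comp_id, Category.comp_id, mul_pow]

section

variable {k : Type u} [Field k]

theorem isClosedImmersion_eta (G : Over (Spec (CommRingCat.of k))) [GrpObj G] [IsSeparated G.hom] :
    IsClosedImmersion (η[G] : 𝟙_ (Over (Spec (CommRingCat.of k))) ⟶ G).left := by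
  have : IsClosedImmersion ((η[G] : 𝟙_ (Over (Spec (CommRingCat.of k))) ⟶ G).left ≫ G.hom) := by
    rw [Over.w]; exact inferInstanceAs (IsClosedImmersion (𝟙 (Spec (CommRingCat.of k))))
  exact IsClosedImmersion.of_comp _ G.hom

/-- the quotient of a commutative group is commutative -/
theorem isCommMonObj_of_cov {G Q : Over (Spec (CommRingCat.of k))} [GrpObj G] [GrpObj Q] [IsCommMonObj G]
    (q : G ⟶ Q) [IsMonHom q] (hq : AlgGrp79.IsCov q) : IsCommMonObj Q := by
  have : Epi (q ⊗ₘ q) := by
    rw [MonoidalCategory.tensorHom_def]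
    exact ((hq.whiskerRight _).comp (hq.whiskerLeft _)).epi
  constructor
  rw [← cancel_epi (q ⊗ₘ q), BraidedCategory.braiding_naturality_assoc, ← IsMonHom.mul_hom, ← Category.assoc,
    IsCommMonObj.mul_comm]

/-- a subgroup of a group killed by `n` is killed by `n` -/
theorem pow_eq_one_of_mono {M N : Over (Spec (CommRingCat.of k))} [GrpObj M] [GrpObj N] (i : M ⟶ N) [IsMonHom i]
    [Mono i] (n : ℕ) (h : i ≫ (𝟙 N ^ n : N ⟶ N) = 1) : (𝟙 M ^ n : M ⟶ M) = 1 := by
  rw [← cancel_mono i, MonObj.pow_comp, Category.id_comp, MonObj.one_comp]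
  rwa [MonObj.comp_pow, Category.comp_id] at h

/-- A smooth connected commutative group over an algebraically closed field killed by a positive integer is
affine. -/
theorem isAffine_of_pow_eq_one [IsAlgClosed k] (n : ℕ) (hn : 0 < n) (m : ℕ)
    (G : Over (Spec (CommRingCat.of k))) [GrpObj G] [IsCommMonObj G] [Smooth G.hom] [QuasiCompact G.hom]
    [ConnectedSpace G.left] (h1 : (𝟙 G ^ n : G ⟶ G) = 1) (hm : topologicalKrullDim G.left ≤ (m : ℕ)) :
    IsAffine G.left := by
  induction m using Nat.strong_induction_on generalizing G with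
  | _ m ih =>
    haveI : IsSeparated G.hom := AlgGrp79.isSeparated_grp G
    by_cases hp : IsProper G.hom
    · haveI := AlgGrp33.IsogSub.geometricallyIntegral_of_smooth G
      have hsurj := Groth.Agent.S0383.result k G n hn
      rw [h1] at hsurj
      haveI : Subsingleton G.left := ⟨fun x y => by
        obtain ⟨a, rfl⟩ := hsurj.surj x
        obtain ⟨b, rfl⟩ := hsurj.surj y
        rw [show (1 : G ⟶ G) = toUnit G ≫ η[G] from Hom.one_def, Over.comp_left, Scheme.Hom.comp_apply,
          Scheme.Hom.comp_apply]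
        exact congrArg _ (Subsingleton.elim (α := PrimeSpectrum k) _ _)⟩
      infer_instance
    obtain ⟨H, _, j, _, _, hsm, haff, hpos⟩ := Groth.Agent.S11397.result k G hp
    haveI := hsm; haveI := haff
    haveI : Mono j := Over.mono_of_mono_left j
    have hn' : AlgGrp.IsNormalHom j := fun T g x => ⟨x, by
      rw [mul_comm g, mul_inv_cancel_right]⟩
    obtain ⟨Q, _, q, _, hcov, _, _, _, hker, -⟩ := SGA3a.SubQuot.exists_quotientGrp j hn'
    obtain ⟨hflat, hsurj, hlfp⟩ := hcov
    haveI := hflat; haveI := hsurj; haveI := hlfp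
    haveI : QuasiCompact q.left := by
      have : QuasiCompact (q.left ≫ Q.hom) := by rw [Over.w]; infer_instance
      exact QuasiCompact.of_comp q.left Q.hom
    haveI : IsAffineHom q.left := Groth.Agent.S11424.result k G H Q j q hker
    haveI : IsCommMonObj Q := isCommMonObj_of_cov q (.of_left q)
    haveI : Smooth Q.hom := by
      have : Smooth (q.left ≫ Q.hom) := by rw [Over.w]; infer_instance
      exact AlgGrp79.smooth_of_flat_surjective q.left Q.hom
    haveI : ConnectedSpace Q.left := hsurj.surj.connectedSpace q.left.continuous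
    haveI := (AlgGrp79.IsCov.of_left q).epi
    have hQ1 : (𝟙 Q ^ n : Q ⟶ Q) = 1 := by
      rw [← cancel_epi q, MonObj.comp_pow, Category.comp_id, MonObj.comp_one]
      calc q ^ n = (𝟙 G ^ n) ≫ q := by rw [MonObj.pow_comp, Category.id_comp]
        _ = 1 := by rw [h1, MonObj.one_comp]
    -- dimensions
    have hdim := SGA3a.GrpImageDim.dim_eq_add q
    rw [show topologicalKrullDim ↥(Set.range q.left) = topologicalKrullDim Q.left by
      rw [Set.range_eq_univ.2 hsurj.surj]
      exact IsHomeomorph.topologicalKrullDim_eq _ (Homeomorph.Set.univ _).isHomeomorph,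
      ← show topologicalKrullDim H.left = _ from IsHomeomorph.topologicalKrullDim_eq _
        (Scheme.homeoOfIso (AlgGrp79.isPullback_left hker).isoPullback).isHomeomorph] at hdim
    obtain ⟨ξH, hξH⟩ := SGA3a.GrpImageDim.exists_tdegN_eq_dim H
    obtain ⟨ξQ, hξQ⟩ := SGA3a.GrpImageDim.exists_tdegN_eq_dim Q
    rw [hξH] at hpos hdim
    rw [hξQ] at hdim
    rw [hdim, ← Nat.cast_add] at hm
    have hm' := Nat.cast_le.1 hm
    have hpos' := Nat.cast_pos.1 hpos
    haveI : IsAffine Q.left := ih _ (by omega) Q hQ1 (hξQ.le.trans le_rfl)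
    exact isAffine_of_isAffineHom q.left

end

section

variable {k : Type u} [Field k]

open SGA3a.GrpHomFinite in
/-- A commutative algebraic group over a field killed by a positive integer is affine. -/
theorem isAffineHom_of_killed (n : ℕ) (hn : 0 < n) (N : Over (Spec (CommRingCat.of k))) [GrpObj N]
    [IsCommMonObj N] [LocallyOfFiniteType N.hom] [QuasiCompact N.hom] (h1 : (𝟙 N ^ n : N ⟶ N) = 1) :
    IsAffineHom N.hom := by
  haveI : IsSeparated N.hom := AlgGrp79.isSeparated_grp N
  obtain ⟨Q, _, q, _, _, _, _, _, _, _⟩ := SGA3a.Affinization.exists_affinization k N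
  haveI : IsSeparated Q.hom := AlgGrp79.isSeparated_grp Q
  haveI : QuasiCompact q.left := by
    have : QuasiCompact (q.left ≫ Q.hom) := by rw [Over.w]; infer_instance
    exact QuasiCompact.of_comp q.left Q.hom
  obtain ⟨_, _⟩ := QAGrp57.exists_grpObj_ker q
  haveI : IsClosedImmersion (kerι q).left :=
    MorphismProperty.pullback_fst (P := @IsClosedImmersion) _ _ (isClosedImmersion_eta Q)
  haveI : Mono (kerι q) := Over.mono_of_mono_left (kerι q)
  haveI : LocallyOfFiniteType (ker q).hom := by rw [← Over.w (kerι q)]; infer_instance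
  haveI : QuasiCompact (ker q).hom := by rw [← Over.w (kerι q)]; infer_instance
  haveI : QuasiSeparated N.hom := inferInstance
  have hD : AlgGrp79.AntiAff (ker q) := SGA3a.Affinization.antiAff_kernel q (kerι q) (isKernel_ker q)
  haveI := SGA3a.AbelianCat.isCommMonObj_of_mono (kerι q)
  have hD1 : (𝟙 (ker q) ^ n : ker q ⟶ ker q) = 1 := pow_eq_one_of_mono (kerι q) n (by rw [h1, MonObj.comp_one])
  haveI : IsSeparated (ker q).hom := AlgGrp79.isSeparated_grp _
  haveI : QuasiSeparated (ker q).hom := inferInstance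
  haveI : Smooth (ker q).hom := SGA3a.Affinization.smooth_of_antiAff _ hD
  let φ : Spec (CommRingCat.of (AlgebraicClosure k)) ⟶ Spec (CommRingCat.of k) :=
    Spec.map (CommRingCat.ofHom (algebraMap k (AlgebraicClosure k)))
  let D := Red.bc φ (ker q)
  letI : GrpObj D := Functor.grpObjObj
  haveI : IsCommMonObj D := AGF80.GeomSub.isCommMonObj_bc φ (ker q)
  haveI : Smooth D.hom := AGF80.GeomSub.smooth_bc φ (ker q)
  haveI : QuasiCompact D.hom := MorphismProperty.pullback_snd (P := @QuasiCompact) _ _ ‹_›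
  haveI : ConnectedSpace D.left :=
    SGA3a.Affinization.connectedSpace_of_antiAff ((AlgGrp79.antiAff_bc_iff _ (ker q)).1 hD) η[D]
  have hD2 : (𝟙 D ^ n : D ⟶ D) = 1 := by
    rw [← RedPts82.map_pow_id φ n, hD1, Functor.map_one]
  obtain ⟨ξ, hξ⟩ := SGA3a.GrpImageDim.exists_tdegN_eq_dim D
  haveI : IsAffine D.left := isAffine_of_pow_eq_one n hn _ D hD2 hξ.le
  have hK : IsAffineHom (ker q).hom := by
    haveI : Flat φ := AGF80.GeomSub.flat_spec φ
    haveI : Surjective φ := AGF80.GeomSub.surjective_spec φ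
    haveI := Unr55.isAffineHom.{u}
    exact MorphismProperty.of_isPullback_of_descendsAlong (P := @IsAffineHom) (Q := Unr55.fpqc.{u})
      (IsPullback.of_hasPullback (ker q).hom φ).flip ⟨⟨inferInstance, inferInstance⟩, inferInstance⟩
      (inferInstanceAs (IsAffineHom D.hom))
  haveI := QAGrp57.isAffineHom_of_kernel q (kerι q) (isKernel_ker q) hK
  haveI : IsAffine N.left := isAffine_of_isAffineHom q.left
  infer_instance

open SGA3a.GrpHomFinite in
/-- The power maps of a commutative algebraic group are affine. -/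
theorem isAffineHom_pow (G : Over (Spec (CommRingCat.of k))) [GrpObj G] [IsCommMonObj G]
    [LocallyOfFiniteType G.hom] [QuasiCompact G.hom] (n : ℕ) (hn : 0 < n) :
    IsAffineHom ((𝟙 G ^ n : G ⟶ G).left) := by
  haveI := isMonHom_pow G n
  let f : G ⟶ G := 𝟙 G ^ n
  haveI : IsMonHom f := isMonHom_pow G n
  haveI : IsSeparated G.hom := AlgGrp79.isSeparated_grp G
  haveI : QuasiCompact f.left := by
    have : QuasiCompact (f.left ≫ G.hom) := by rw [Over.w]; infer_instance
    exact QuasiCompact.of_comp f.left G.hom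
  obtain ⟨_, _⟩ := QAGrp57.exists_grpObj_ker f
  haveI : IsClosedImmersion (kerι f).left :=
    MorphismProperty.pullback_fst (P := @IsClosedImmersion) _ _ (isClosedImmersion_eta G)
  haveI : Mono (kerι f) := Over.mono_of_mono_left (kerι f)
  haveI : LocallyOfFiniteType (ker f).hom := by rw [← Over.w (kerι f)]; infer_instance
  haveI : QuasiCompact (ker f).hom := by rw [← Over.w (kerι f)]; infer_instance
  haveI := SGA3a.AbelianCat.isCommMonObj_of_mono (kerι f)
  refine QAGrp57.isAffineHom_of_kernel f (kerι f) (isKernel_ker f) (isAffineHom_of_killed n hn _ ?_)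
  exact pow_eq_one_of_mono (kerι f) n (by simpa using AlgGrp79.isKernel_comp_one (isKernel_ker f) (𝟙 _))

/-- a morphism from an anti-affine scheme with a rational point to an affine group, preserving the point, is
trivial -/
theorem eq_one_of_antiAff {G Q : Over (Spec (CommRingCat.of k))} [GrpObj G] [GrpObj Q] [IsAffine Q.left]
    (hG : AlgGrp79.AntiAff G) (q : G ⟶ Q) [IsMonHom q] : q = 1 := by
  have he : G.hom.appTop ≫ (η[G] : 𝟙_ (Over (Spec (CommRingCat.of k))) ⟶ G).left.appTop = 𝟙 _ := by
    rw [← Scheme.Hom.comp_appTop, Over.w]; rfl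
  have hs : Function.Surjective G.hom.appTop := fun a => by
    obtain ⟨c, hc⟩ := hG.2 a
    exact ⟨(Scheme.ΓSpecIso (CommRingCat.of k)).inv c, hc⟩
  refine Over.OverMorphism.ext (ext_of_isAffine (CommRingCat.hom_ext (RingHom.ext fun r => ?_)))
  obtain ⟨a, ha⟩ := hs (q.left.appTop r)
  obtain ⟨b, hb⟩ := hs ((1 : G ⟶ Q).left.appTop r)
  have h := congrArg (fun f : 𝟙_ (Over (Spec (CommRingCat.of k))) ⟶ Q => f.left.appTop r)
    (show η[G] ≫ q = η[G] ≫ (1 : G ⟶ Q) by rw [IsMonHom.one_hom, MonObj.comp_one, MonObj.one_eq_one])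
  simp only [Over.comp_left, Scheme.Hom.comp_appTop, CommRingCat.comp_apply] at h
  rw [← ha, ← hb, ← CommRingCat.comp_apply, ← CommRingCat.comp_apply, he] at h
  show q.left.appTop r = (1 : G ⟶ Q).left.appTop r
  rw [← ha, ← hb]
  exact congrArg _ h

open SGA3a.GrpHomFinite in
/-- The positive power maps of an anti-affine commutative algebraic group are surjective and finite. -/
theorem pow_surjective_isFinite (G : Over (Spec (CommRingCat.of k))) [GrpObj G] [IsCommMonObj G]
    [LocallyOfFiniteType G.hom] [QuasiCompact G.hom] (hG : AlgGrp79.AntiAff G) (n : ℕ) (hn : 0 < n) :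
    Surjective (𝟙 G ^ n : G ⟶ G).left ∧ IsFinite (𝟙 G ^ n : G ⟶ G).left := by
  let f : G ⟶ G := 𝟙 G ^ n
  haveI : IsMonHom f := isMonHom_pow G n
  haveI : IsSeparated G.hom := AlgGrp79.isSeparated_grp G
  haveI : QuasiCompact f.left := by
    have : QuasiCompact (f.left ≫ G.hom) := by rw [Over.w]; infer_instance
    exact QuasiCompact.of_comp f.left G.hom
  obtain ⟨I, _, i, f', _, _, hfi, _, -, -, hf'⟩ := Groth.Agent.S3024.result k G G f
  haveI := hf'
  haveI : Mono i := Over.mono_of_mono_left i
  haveI : LocallyOfFiniteType I.hom := by rw [← Over.w i]; infer_instance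
  haveI : QuasiCompact I.hom := by rw [← Over.w i]; infer_instance
  have hn' : AlgGrp.IsNormalHom i := fun T g x => ⟨x, by rw [mul_comm g, mul_inv_cancel_right]⟩
  obtain ⟨Q, _, q, _, hcov, _, _, _, hker, -⟩ := SGA3a.SubQuot.exists_quotientGrp i hn'
  haveI := hcov.epi
  haveI : IsCommMonObj Q := isCommMonObj_of_cov q hcov
  have hQ : (𝟙 Q ^ n : Q ⟶ Q) = 1 := by
    rw [← cancel_epi q, MonObj.comp_pow, Category.comp_id, MonObj.comp_one]
    calc q ^ n = f ≫ q := by rw [MonObj.pow_comp, Category.id_comp]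
      _ = 1 := by rw [← hfi, AlgGrp79.isKernel_comp_one hker]
  haveI := isAffineHom_of_killed n hn Q hQ
  haveI : IsAffine Q.left := isAffine_of_isAffineHom Q.hom
  have hq1 := eq_one_of_antiAff hG q
  obtain ⟨s, hs⟩ := AlgGrp79.exists_ker_of_comp_one hker (𝟙 G) (by rw [hq1, MonObj.comp_one])
  haveI : Surjective i.left := ⟨fun x => ⟨s.left x, by
    rw [← Scheme.Hom.comp_apply, ← Over.comp_left, hs]; rfl⟩⟩
  haveI hsurj : Surjective f.left := by rw [← hfi, Over.comp_left]; infer_instance
  refine ⟨hsurj, ?_⟩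
  obtain ⟨_, _⟩ := QAGrp57.exists_grpObj_ker f
  haveI : IsClosedImmersion (kerι f).left :=
    MorphismProperty.pullback_fst (P := @IsClosedImmersion) _ _ (isClosedImmersion_eta G)
  haveI : LocallyOfFiniteType (ker f).hom := by rw [← Over.w (kerι f)]; infer_instance
  haveI : QuasiCompact (ker f).hom := by rw [← Over.w (kerι f)]; infer_instance
  have hdim := SGA3a.GrpImageDim.dim_eq_add f
  rw [show topologicalKrullDim ↥(Set.range f.left) = topologicalKrullDim G.left by
    rw [Set.range_eq_univ.2 hsurj.surj]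
    exact IsHomeomorph.topologicalKrullDim_eq _ (Homeomorph.Set.univ _).isHomeomorph] at hdim
  obtain ⟨ξG, hξG⟩ := SGA3a.GrpImageDim.exists_tdegN_eq_dim G
  obtain ⟨ξD, hξD⟩ := SGA3a.GrpImageDim.exists_tdegN_eq_dim (ker f)
  rw [hξG, show topologicalKrullDim ↥(pullback f.left (η[G] : 𝟙_ _ ⟶ G).left) =
    topologicalKrullDim (ker f).left from rfl, hξD, ← Nat.cast_add, Nat.cast_inj] at hdim
  have h0 : topologicalKrullDim (ker f).left ≤ 0 := by rw [hξD, show WC97.tdegN (ker f).hom ξD = 0 by omega]; simp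
  haveI : IsLocallyNoetherian (ker f).left := LocallyOfFiniteType.isLocallyNoetherian (ker f).hom
  haveI : IsArtinianScheme (ker f).left :=
    { toIsLocallyArtinian := .of_topologicalKrullDim_le_zero h0
      toCompactSpace := QuasiCompact.compactSpace_of_compactSpace (ker f).hom }
  haveI : LocallyQuasiFinite (ker f).hom :=
    .of_finite_preimage_singleton _ fun y => Set.toFinite _
  exact isFinite_of_kernel f (kerι f) (isKernel_ker f) (IsFinite.of_locallyQuasiFinite _)

theorem zpow_surjective_isFinite (G : Over (Spec (CommRingCat.of k))) [GrpObj G] [IsCommMonObj G]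
    [LocallyOfFiniteType G.hom] [QuasiCompact G.hom] (hG : AlgGrp79.AntiAff G) (n : ℤ) (hn : n ≠ 0) :
    Surjective (𝟙 G ^ n : G ⟶ G).left ∧ IsFinite (𝟙 G ^ n : G ⟶ G).left := by
  obtain ⟨m, rfl | rfl⟩ := Int.eq_nat_or_neg n
  · rw [zpow_natCast]
    exact pow_surjective_isFinite G hG m (by omega)
  · obtain ⟨h1, h2⟩ := pow_surjective_isFinite G hG m (by omega)
    have hι : (ι[G] : G ⟶ G) = (𝟙 G)⁻¹ := by rw [Hom.inv_def, Category.id_comp]
    haveI : IsIso (ι[G] : G ⟶ G) := ⟨ι[G], by rw [hι, GrpObj.comp_inv, Category.comp_id, _root_.inv_inv],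
      by rw [hι, GrpObj.comp_inv, Category.comp_id, _root_.inv_inv]⟩
    haveI : IsIso (ι[G] : G ⟶ G).left := (Over.forget _).map_isIso _
    rw [zpow_neg, zpow_natCast, Hom.inv_def, Over.comp_left]
    haveI := h1; haveI := h2
    exact ⟨inferInstance, inferInstance⟩

end

end Groth.Agent.GrpFG58
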